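import Mathlib
import Cfsg.Agent.Lib.Helper98.BG.SigmaDefs
import Cfsg.Agent.Lib.Helper13.BG.S1427A
import Cfsg.Agent.Lib.Helper35.BG.Compl
import Cfsg.Agent.Lib.Helper35.BG.Hall
import Cfsg.Agent.Lib.Helper31.BG.SigmaHall

/-!
# SIGMA13, package C1 (complements of `M_σ` inside `N_G(Q)`; `C_Q(E) = 1`)

helper64, for helper98's project.  `lemC1 : LemA → LemC1`.
-/

set_option autoImplicit false

namespace Cfsg.Agent.Lib.Helper64.BG

open Cfsg Cfsg.Agent.Lib.Helper46 Cfsg.Agent.Lib.Helper35.BG Cfsg.Agent.Lib.Helper13.BG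
open Cfsg.Agent.Lib.Helper98.BG13
open scoped Pointwise

universe u

variable {G : Type u} [Group G]

/-- Conjugating a complement of a normal factor by an element of `M`. -/
theorem isComplIn_map_conj64 {A B M : Subgroup G} (h : IsComplIn A B M) {g : G} (hg : g ∈ M)
    (hB : M ≤ Subgroup.normalizer (B : Set G)) :
    IsComplIn (A.map (MulAut.conj g).toMonoidHom) B M := by
  obtain ⟨hAM, hBM, hAB, hprod⟩ := h
  have hgB : ∀ b, b ∈ B → g⁻¹ * b * g ∈ B := by
    intro b hb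
    have h1 := (Subgroup.mem_normalizer_iff.mp (hB (M.inv_mem hg)) b).mp hb
    simpa using h1
  have hgB' : ∀ b, b ∈ B → g * b * g⁻¹ ∈ B := by
    intro b hb
    exact (Subgroup.mem_normalizer_iff.mp (hB hg) b).mp hb
  refine ⟨?_, hBM, ?_, ?_⟩
  · rintro _ ⟨a, ha, rfl⟩
    change g * a * g⁻¹ ∈ M
    exact M.mul_mem (M.mul_mem hg (hAM ha)) (M.inv_mem hg)
  · rw [eq_bot_iff]
    intro y hy
    rw [Subgroup.mem_inf] at hy
    obtain ⟨hy1, hy2⟩ := hy
    rw [Cfsg.Agent.Lib.Helper35.BG.mem_map_conj_iff] at hy1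
    have h1 : g⁻¹ * y * g ∈ A ⊓ B := ⟨hy1, hgB y hy2⟩
    rw [hAB, Subgroup.mem_bot] at h1
    rw [Subgroup.mem_bot]
    have : y = g * (g⁻¹ * y * g) * g⁻¹ := by group
    rw [this, h1]; group
  · intro m hm
    obtain ⟨a, ha, b, hb, hab⟩ := hprod (g⁻¹ * m * g) (M.mul_mem (M.mul_mem (M.inv_mem hg) hm) hg)
    refine ⟨g * a * g⁻¹, Cfsg.Agent.Lib.Helper35.BG.conj_mem_map_conj g ha, g * b * g⁻¹,
      hgB' b hb, ?_⟩
    have : m = g * (g⁻¹ * m * g) * g⁻¹ := by group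
    rw [this, hab]; group

/-- For `p ∈ σ(M)`, every `p`-subgroup of `M` lies in `M_σ`. -/
theorem pgroup_le_sigmaCore64 [Finite G] (hG : IsMinSimpleOddOrder G)
    (h1404 : type_of% (@Cfsg.CfsgFrozen.S1404 G _ _ hG))
    (h1405 : type_of% (@Cfsg.CfsgFrozen.S1405 G _ _ hG))
    (M : Subgroup G) (hM : IsCoatom M) (p : ℕ) [Fact p.Prime] (hp : p ∈ sigma M)
    {X : Subgroup G} (hX : IsPGroup p X) (hXM : X ≤ M) : X ≤ sigmaCore M := by
  have hX' : IsPGroup p (X.subgroupOf M) := hX.comap_subtype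
  obtain ⟨P, hP⟩ := hX'.exists_le_sylow
  intro x hx
  have h1 : (⟨x, hXM hx⟩ : M) ∈ (P : Subgroup M) := hP (Subgroup.mem_subgroupOf.mpr hx)
  have h2 := Cfsg.Agent.Lib.Helper66.BG.sylow_le_piCore_sigma hG h1404 h1405 M hM p hp P h1
  exact ⟨⟨x, hXM hx⟩, h2, rfl⟩

/-- Package C1 of SIGMA13. -/
theorem lemC1 (hA : LemA.{u}) : LemC1.{u} := by
  intro G _ _ hG hy M H Q q hb
  obtain ⟨hQab, hQσ, hqα, hMdec, hnn, hτ2, hβ⟩ := hA hG hy M H Q q hb
  have hM := hb.hM
  have h1350 := Cfsg.Agent.Lib.Helper66.BG.s1350_core hG hy.h1404 hy.h1405 M hM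
  have hSM : sigmaCore M ≤ M := Subgroup.map_subtype_le _
  have hSnorm : M ≤ Subgroup.normalizer ((sigmaCore M : Subgroup G) : Set G) :=
    Cfsg.Agent.Lib.Helper31.BG.le_normalizer_sigmaCore M
  have hNM := hb.hNM
  have hqp : q.Prime := hb.hqM.1
  have : Fact q.Prime := ⟨hqp⟩
  constructor
  · -- complements inside `N_G(Q)`
    set N : Subgroup G := Subgroup.normalizer (Q : Set G) with hNdef
    set K : Subgroup G := sigmaCore M ⊓ N with hKdef
    have hKN : K ≤ N := inf_le_right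
    have hnorm : N ≤ Subgroup.normalizer (K : Set G) := by
      intro n hn
      rw [Subgroup.mem_normalizer_iff]
      intro h
      have h1 := Subgroup.mem_normalizer_iff.mp (hSnorm (hNM hn)) h
      constructor
      · rintro ⟨hh1, hh2⟩
        exact ⟨h1.mp hh1, N.mul_mem (N.mul_mem hn hh2) (N.inv_mem hn)⟩
      · rintro ⟨hh1, hh2⟩
        refine ⟨h1.mpr hh1, ?_⟩
        have h3 : n⁻¹ * (n * h * n⁻¹) * n ∈ N := N.mul_mem (N.mul_mem (N.inv_mem hn) hh2) hn
        have h4 : n⁻¹ * (n * h * n⁻¹) * n = h := by group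
        rwa [h4] at h3
    have hKpi : ∀ p : ℕ, p.Prime → p ∣ Nat.card K → p ∈ sigma M := fun p hp hdvd =>
      h1350.1.2.1 p hp (hdvd.trans (Subgroup.card_dvd_of_le inf_le_left))
    have hcop : (Nat.card K).Coprime (K.relIndex N) := by
      apply Nat.coprime_of_dvd
      intro p hp hdvd hidx
      have : Fact p.Prime := ⟨hp⟩
      have hpσ : p ∈ sigma M := hKpi p hp hdvd
      obtain ⟨T, hT, -⟩ := exists_isSylowIn_ge (p := p) (Q := (⊥ : Subgroup G)) (H := N)
        IsPGroup.of_bot bot_le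
      have hTS : T ≤ sigmaCore M :=
        pgroup_le_sigmaCore64 hG hy.h1404 hy.h1405 M hM p hpσ (sylIn_isPGroup hT)
          (hT.1.trans hNM)
      have hTK : T ≤ K := le_inf hTS hT.1
      exact Cfsg.Agent.Lib.Helper31.BG.not_dvd_relIndex_of_sylIn_le hT hTK hKN hidx
    obtain ⟨E0, hE0⟩ := exists_isComplIn_of_coprime hKN hnorm hcop
    -- `E0` is a complement of `M_σ` in `M`
    have hαS : alphaCore M ≤ sigmaCore M := (hy.h1405 M hM).2.2.1
    have hE0M : IsComplIn E0 (sigmaCore M) M := by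
      refine ⟨hE0.2.1.trans hNM, hSM, ?_, ?_⟩
      · rw [eq_bot_iff]
        intro x hx
        have h1 : x ∈ K ⊓ E0 := ⟨⟨hx.2, hE0.2.1 hx.1⟩, hx.1⟩
        rw [hE0.2.2.1] at h1
        exact h1
      · intro m hm
        -- `m ∈ M_α ⊔ N = N * M_α`
        have h1 : m ∈ alphaCore M ⊔ N := by rw [← hMdec]; exact hm
        have h2 : N ≤ Subgroup.normalizer ((alphaCore M : Subgroup G) : Set G) := by
          intro n hn
          exact Cfsg.Agent.Lib.Helper23.piCoreOf_normalizer (alpha M) M (hNM hn)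
        have h3 : (↑(N ⊔ alphaCore M) : Set G) = (N : Set G) * (alphaCore M : Set G) :=
          Subgroup.coe_mul_of_left_le_normalizer_right N (alphaCore M) h2
        have h4 : m ∈ (↑(N ⊔ alphaCore M) : Set G) := by
          rw [sup_comm] at h1; exact h1
        rw [h3] at h4
        obtain ⟨n, hn, a, ha, rfl⟩ := h4
        obtain ⟨k, hk, e, he, rfl⟩ := hE0.2.2.2 n hn
        -- `k * e * a = e * (e⁻¹ k e * a)`
        refine ⟨e, he, e⁻¹ * k * e * a, ?_, by group⟩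
        have heM : e ∈ M := hNM (hE0.2.1 he)
        have h5 : e⁻¹ * k * e⁻¹⁻¹ ∈ sigmaCore M :=
          (Subgroup.mem_normalizer_iff.mp (hSnorm (M.inv_mem heM)) k).mp hk.1
        rw [inv_inv] at h5
        exact Subgroup.mul_mem _ h5 (hαS ha)
    intro p P hp hpσ hPp hPN
    have : Fact p.Prime := ⟨hp⟩
    have hnd : ¬ p ∣ E0.relIndex N := by
      rw [relIndex_right_of_isComplIn hE0]
      intro hdvd
      exact hpσ (hKpi p hp hdvd)
    obtain ⟨l, hl, hPl⟩ := exists_conj_le_of_not_dvd_relIndex hPp hPN hE0.2.1 hnd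
    refine ⟨E0.map (MulAut.conj l⁻¹).toMonoidHom, ?_, ?_, ?_⟩
    · intro x hx
      rw [Cfsg.Agent.Lib.Helper35.BG.mem_map_conj_iff, inv_inv]
      exact hPl (Cfsg.Agent.Lib.Helper35.BG.conj_mem_map_conj l hx)
    · rintro _ ⟨e, he, rfl⟩
      change l⁻¹ * e * l⁻¹⁻¹ ∈ N
      exact N.mul_mem (N.mul_mem (N.inv_mem hl) (hE0.2.1 he)) (N.inv_mem (N.inv_mem hl))
    · exact isComplIn_map_conj64 hE0M (M.inv_mem (hNM hl)) hSnorm
  · -- `C_Q(E) = 1`
    intro E hE
    by_contra hne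
    have hQp : IsPGroup q Q := IsPGroup.of_card hb.hQ.2
    have hCp : IsPGroup q ↥(Q ⊓ Subgroup.centralizer (E : Set G)) := hQp.to_le inf_le_left
    have hdvd : q ∣ Nat.card ↥(Q ⊓ Subgroup.centralizer (E : Set G)) := by
      obtain ⟨k, hk⟩ := IsPGroup.iff_card.mp hCp
      rw [hk]
      cases k with
      | zero =>
        exfalso
        apply hne
        rw [pow_zero] at hk
        exact Subgroup.card_eq_one.mp hk
      | succ k => exact dvd_pow_self q (Nat.succ_ne_zero k)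
    obtain ⟨y, hyo⟩ := exists_prime_orderOf_dvd_card' q hdvd
    set X : Subgroup G := Subgroup.zpowers (y : G) with hXdef
    have hXC : X ≤ Q ⊓ Subgroup.centralizer (E : Set G) := Subgroup.zpowers_le.mpr y.2
    have hXcard : Nat.card X = q := by
      rw [hXdef, Nat.card_zpowers, Subgroup.orderOf_coe, hyo]
    have hXQ : X ≤ Q := hXC.trans inf_le_left
    have hXS : X ≤ sigmaCore M := hXQ.trans hQσ
    have hXD : X ≤ ⁅sigmaCore M, sigmaCore M⁆ := by
      intro x hx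
      exact (hy.h1426 M hM E hE).1 ⟨hXS hx, (hXC hx).2⟩
    -- `Q` as a Sylow `q`-subgroup of `M_σ`
    have hQS : IsSylowIn q Q (sigmaCore M) := sylIn_mono hb.hQ hQσ le_top
    obtain ⟨P, hP⟩ := hQS.exists_sylow
    obtain ⟨-, ⟨M₀, -, hM₀⟩, -⟩ := hy.h1423 M hM q hb.hqM X (hXS.trans hSM) hXcard P (Or.inr hXD)
    rw [hP] at hM₀
    have hQN : Q ≤ Subgroup.normalizer (Q : Set G) := Subgroup.le_normalizer
    have e1 : M = M₀ := hM₀ M ⟨hM, hQN.trans hNM⟩
    have e2 : H = M₀ := hM₀ H ⟨hb.hH, hQN.trans hb.hNH⟩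
    apply hb.hnc 1
    rw [Cfsg.Agent.Lib.Helper35.BG.map_conj_one, e1, e2]

end Cfsg.Agent.Lib.Helper64.BG
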